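import Mathlib
import Groth.Agent.Lib.Helper2.SchDom.Fib3

set_option autoImplicit false
set_option backward.isDefEq.respectTransparency.types false
set_option synthInstance.maxHeartbeats 400000
set_option maxHeartbeats 4000000
set_option linter.style.haveILetI false
set_option linter.unusedSectionVars false
set_option linter.unusedVariables false

/-!
# The family of standard étale algebras `D[X] → D[X]_g/(f)` coming from `ℤ` is separating

For every ring `D`, the family of all `D[X] → (Q_D).Ring`, `Q` a standard étale pair over `ℤ`, is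
separating.  This is proved by the fibrewise criterion over the Noetherian base `ℤ`: over a field
of characteristic zero the integer points are dense in the affine line, and over a field of
characteristic `p` the subschemes `X ^ (p ^ k) = X` are.
-/

open Polynomial TensorProduct

namespace Groth.Agent.Helper2.SchDom

universe u

/-- base change of an integral standard étale pair -/
noncomputable abbrev Qd (D : Type u) [CommRing D] (Q : StandardEtalePair ℤ) :
    StandardEtalePair D :=
  Q.map (Int.castRingHom D)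

/-- the canonical map `D[X] → Q_D.Ring` -/
noncomputable abbrev ev (D : Type u) [CommRing D] (Q : StandardEtalePair ℤ) :
    D[X] →ₐ[D] (Qd D Q).Ring := aeval (Qd D Q).X

/-- the pair `(X - a, 1)` -/
noncomputable def pairLin (a : ℤ) : StandardEtalePair ℤ where
  f := X - C a
  monic_f := monic_X_sub_C a
  g := 1
  cond := ⟨1, 0, 0, by simp⟩

/-- the pair `(X ^ q - X, derivative)` -/
noncomputable def pairFrob (q : ℕ) (hq : 2 ≤ q) : StandardEtalePair ℤ where
  f := X ^ q - X
  monic_f := monic_X_pow_sub (by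
    rw [degree_X]
    exact_mod_cast (by omega : 1 < q))
  g := derivative (X ^ q - X)
  cond := ⟨1, 0, 1, by simp⟩

theorem aeval_map_intCast {R₀ L : Type*} [CommRing R₀] [CommRing L] [Algebra R₀ L] (x : L)
    (p : ℤ[X]) :
    aeval x (p.map (Int.castRingHom R₀)) = p.eval₂ (Int.castRingHom L) x := by
  rw [aeval_def, eval₂_map]
  congr 1
  exact RingHom.ext_int _ _

theorem hasMap_Qd_iff {R₀ L : Type u} [CommRing R₀] [CommRing L] [Algebra R₀ L]
    (Q : StandardEtalePair ℤ) (x : L) :
    (Qd R₀ Q).HasMap x ↔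
      Q.f.eval₂ (Int.castRingHom L) x = 0 ∧ IsUnit (Q.g.eval₂ (Int.castRingHom L) x) := by
  unfold StandardEtalePair.HasMap
  rw [show (Qd R₀ Q).f = Q.f.map (Int.castRingHom R₀) from rfl,
    show (Qd R₀ Q).g = Q.g.map (Int.castRingHom R₀) from rfl, aeval_map_intCast,
    aeval_map_intCast]

section Fib

variable (R₀ : Type u) [CommRing R₀]

theorem aeval_eq_zero_of_rho (K : Type u) [CommRing K] [Algebra R₀ K]
    (L : Type u) [CommRing L] [Algebra K L] [Algebra R₀ L] [IsScalarTower R₀ K L]
    (Q : StandardEtalePair ℤ) (x : L) (hx : (Qd R₀ Q).HasMap x) (y : K ⊗[R₀] R₀[X])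
    (hy : rho (fun Q : StandardEtalePair ℤ => ev R₀ Q) K Q y = 0) :
    aeval x ((polyEquivTensor' R₀ K).symm y) = 0 := by
  let ψ : K ⊗[R₀] (Qd R₀ Q).Ring →ₐ[K] L :=
    Algebra.TensorProduct.lift (Algebra.ofId K L) ((Qd R₀ Q).lift x hx)
      (fun _ _ => Commute.all _ _)
  have key : ∀ z : K ⊗[R₀] R₀[X], ψ (rho (fun Q : StandardEtalePair ℤ => ev R₀ Q) K Q z)
      = aeval x ((polyEquivTensor' R₀ K).symm z) := by
    intro z
    induction z using TensorProduct.induction_on with
    | zero => simp
    | tmul a p =>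
      rw [rho_tmul, Algebra.TensorProduct.lift_tmul, coe_polyEquivTensor'_symm,
        polyEquivTensor_symm_apply_tmul_eq_smul, _root_.map_smul, aeval_map_algebraMap,
        Algebra.smul_def]
      congr 1
      show (Qd R₀ Q).lift x hx (aeval (Qd R₀ Q).X p) = aeval x p
      rw [← aeval_algHom_apply, StandardEtalePair.lift_X]
    | add z w hz hw => simp only [map_add, hz, hw]
  rw [← key, hy, map_zero]

theorem eq_zero_of_forall_rho (K : Type u) [Field K] [Algebra R₀ K] (y : K ⊗[R₀] R₀[X])
    (hy : ∀ Q, rho (fun Q : StandardEtalePair ℤ => ev R₀ Q) K Q y = 0) : y = 0 := by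
  suffices h : (polyEquivTensor' R₀ K).symm y = 0 by
    have := congrArg (polyEquivTensor' R₀ K) h
    rwa [AlgEquiv.apply_symm_apply, map_zero] at this
  set y' := (polyEquivTensor' R₀ K).symm y with hy'
  obtain ⟨p, hp⟩ := CharP.exists K
  rcases CharP.char_is_prime_or_zero K p with hpp | hp0
  · -- characteristic `p`
    by_contra hne
    haveI := hp
    have hp2 : 2 ≤ p := hpp.two_le
    have hqlt : y'.natDegree < p ^ (y'.natDegree + 1) :=
      lt_of_lt_of_le (Nat.lt_succ_self _) (Nat.lt_pow_self hp2).le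
    have hq2 : 2 ≤ p ^ (y'.natDegree + 1) := by
      calc 2 ≤ p := hp2
        _ = p ^ 1 := (pow_one p).symm
        _ ≤ p ^ (y'.natDegree + 1) := Nat.pow_le_pow_right (by omega) (by omega)
    set q := p ^ (y'.natDegree + 1) with hq
    have hqK : ((q : ℕ) : K) = 0 := by
      rw [hq, Nat.cast_pow, CharP.cast_eq_zero K p, zero_pow (by omega)]
    have hx : (Qd R₀ (pairFrob q hq2)).HasMap (AdjoinRoot.root (X ^ q - X : K[X])) := by
      rw [hasMap_Qd_iff]
      have h1 : (AdjoinRoot.root (X ^ q - X : K[X])) ^ q - AdjoinRoot.root (X ^ q - X : K[X])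
          = 0 := by
        rw [← AdjoinRoot.mk_X, ← map_pow, ← map_sub]
        exact AdjoinRoot.mk_self
      have h2 : ((q : ℕ) : AdjoinRoot (X ^ q - X : K[X])) = 0 := by
        rw [← map_natCast (algebraMap K (AdjoinRoot (X ^ q - X : K[X]))), hqK, map_zero]
      constructor
      · show (X ^ q - X : ℤ[X]).eval₂ _ _ = 0
        rw [eval₂_sub, eval₂_pow, eval₂_X]
        exact h1
      · show IsUnit ((derivative (X ^ q - X : ℤ[X])).eval₂ _ _)
        rw [derivative_sub, derivative_X_pow, derivative_X, eval₂_sub, eval₂_mul, eval₂_one,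
          eval₂_pow, eval₂_X]
        have : eval₂ (Int.castRingHom (AdjoinRoot (X ^ q - X : K[X])))
            (AdjoinRoot.root (X ^ q - X : K[X])) (C (q : ℤ)) = 0 := by
          rw [eval₂_C]
          simpa using h2
        rw [this, zero_mul, zero_sub]
        exact isUnit_one.neg
    have h0 := aeval_eq_zero_of_rho R₀ K (AdjoinRoot (X ^ q - X : K[X])) (pairFrob q hq2)
      (AdjoinRoot.root (X ^ q - X : K[X])) hx y (hy _)
    rw [AdjoinRoot.aeval_eq, AdjoinRoot.mk_eq_zero] at h0
    have h3 : (X ^ q - X : K[X]).natDegree ≤ y'.natDegree :=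
      Polynomial.natDegree_le_of_dvd h0 hne
    have h4 : (X ^ q - X : K[X]).natDegree = q := by
      have : (X : K[X]).natDegree < (X ^ q : K[X]).natDegree := by
        rw [natDegree_X_pow, natDegree_X]; omega
      rw [natDegree_sub_eq_left_of_natDegree_lt this, natDegree_X_pow]
    rw [h4] at h3
    omega
  · -- characteristic zero
    subst hp0
    haveI : CharZero K := CharP.charP_to_charZero K
    refine Polynomial.eq_zero_of_infinite_isRoot y' ?_
    refine Set.Infinite.mono ?_ (Set.infinite_range_of_injective (Int.cast_injective (α := K)))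
    rintro _ ⟨a, rfl⟩
    have hx : (Qd R₀ (pairLin a)).HasMap ((a : ℤ) : K) := by
      rw [hasMap_Qd_iff]
      constructor
      · show (X - C a : ℤ[X]).eval₂ _ _ = 0
        rw [eval₂_sub, eval₂_X, eval₂_C]
        simp
      · show IsUnit ((1 : ℤ[X]).eval₂ _ _)
        rw [eval₂_one]
        exact isUnit_one
    have h0 := aeval_eq_zero_of_rho R₀ K K (pairLin a) ((a : ℤ) : K) hx y (hy _)
    show IsRoot y' ((a : ℤ) : K)
    rw [IsRoot, ← coe_aeval_eq_eval]
    exact h0

/-- the fibres of the family are separating -/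
theorem fib_stdEtale (K : Type u) [Field K] [Algebra R₀ K] :
    RingSD (fun Q : StandardEtalePair ℤ => ev R₀ Q) K := by
  intro g s hs
  haveI : ∀ Q : StandardEtalePair ℤ, IsReduced (K ⊗[R₀] (Qd R₀ Q).Ring) := fun Q =>
    Algebra.FormallyUnramified.isReduced_of_field K _
  refine ⟨1, ?_⟩
  rw [pow_one]
  refine eq_zero_of_forall_rho R₀ K _ (fun Q => ?_)
  obtain ⟨m, hm⟩ := hs Q
  have hm' : rho (fun Q : StandardEtalePair ℤ => ev R₀ Q) K Q (g ^ m * s) = 0 := hm
  have hnil : IsNilpotent (rho (fun Q : StandardEtalePair ℤ => ev R₀ Q) K Q (g * s)) :=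
    ⟨m + 1, by
      rw [← map_pow]
      have : (g * s) ^ (m + 1) = (g ^ m * s) * (g * s ^ m) := by ring
      rw [this, map_mul, hm', zero_mul]⟩
  exact hnil.eq_zero

end Fib

/-- a copy of the integers in an arbitrary universe (a synonym of `ULift ℤ`, to keep the
instances of `ULift` out of the way) -/
def ZZ : Type u := ULift.{u} ℤ

noncomputable instance : CommRing ZZ.{u} := inferInstanceAs (CommRing (ULift.{u} ℤ))

instance : IsNoetherianRing ZZ.{u} :=
  isNoetherianRing_of_ringEquiv ℤ (ULift.ringEquiv : ULift.{u} ℤ ≃+* ℤ).symm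

/-- the unique algebra structure over `ZZ` -/
@[instance_reducible]
noncomputable def ZZ.algebra (D : Type u) [CommRing D] : Algebra ZZ.{u} D :=
  ((Int.castRingHom D).comp (ULift.ringEquiv : ULift.{u} ℤ ≃+* ℤ).toRingHom).toAlgebra

/-- **the family of all integral standard étale pairs is separating over every ring** -/
theorem SDring_stdEtale (D : Type u) [CommRing D] :
    SDring (fun Q : StandardEtalePair ℤ => (ev D Q).toRingHom) := by
  letI : Algebra ZZ.{u} D := ZZ.algebra D
  have h := ringSD_of_fibrewise (R := ZZ.{u})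
    (fun Q : StandardEtalePair ℤ => ev ZZ.{u} Q)
    (fun K _ _ => fib_stdEtale ZZ.{u} K) D
  have hmap : ∀ Q : StandardEtalePair ℤ,
      (Qd D Q).HasMap ((1 : D) ⊗ₜ[ZZ.{u}] (Qd ZZ.{u} Q).X) := by
    intro Q
    have h1 : (Qd ZZ.{u} Q).HasMap ((1 : D) ⊗ₜ[ZZ.{u}] (Qd ZZ.{u} Q).X) :=
      (StandardEtalePair.hasMap_X (P := Qd ZZ.{u} Q)).map
        (Algebra.TensorProduct.includeRight (R := ZZ.{u}) (A := D))
    rw [hasMap_Qd_iff] at h1
    exact (hasMap_Qd_iff (R₀ := D) Q _).mpr h1
  refine SDring.of_ringEquiv _ _ (polyEquivTensor' ZZ.{u} D).toRingEquiv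
    (fun Q => ((Qd D Q).lift _ (hmap Q)).toRingHom) ?_ h
  intro Q x
  show ((Qd D Q).lift _ (hmap Q)).comp (ev D Q) x
    = ((rho (fun Q : StandardEtalePair ℤ => ev ZZ.{u} Q) D Q).comp
        (polyEquivTensor' ZZ.{u} D).toAlgHom) x
  congr 1
  apply Polynomial.algHom_ext
  have hX : (polyEquivTensor' ZZ.{u} D) (X : D[X]) = (1 : D) ⊗ₜ[ZZ.{u}] (X : ZZ.{u}[X]) := by
    rw [coe_polyEquivTensor', polyEquivTensor_apply, eval₂_X]
  simp only [AlgHom.comp_apply, aeval_X, StandardEtalePair.lift_X]
  show _ = rho (fun Q : StandardEtalePair ℤ => ev ZZ.{u} Q) D Q ((polyEquivTensor' ZZ.{u} D) X)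
  rw [hX, rho_tmul, aeval_X]

end Groth.Agent.Helper2.SchDom
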