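import Mathlib
import Groth.Agent.Lib.Helper2.EtFam.Fib
import Groth.Agent.Lib.Helper2.SchDom.Flat3

set_option autoImplicit false
set_option backward.isDefEq.respectTransparency.types false
set_option synthInstance.maxHeartbeats 400000
set_option maxHeartbeats 4000000
set_option linter.style.haveILetI false
set_option linter.unusedSectionVars false
set_option linter.unusedVariables false

/-!
# The family of all étale subschemes of a smooth affine scheme is separating

`EtImm R P` : the `P`-algebras `D` which are étale over `R` and such that `Spec D → Spec P` is an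
immersion.  `SDall R P` : this family of algebras is separating.  We show `SDall R B` for every
standard smooth `R`-algebra `B`.
-/

open CategoryTheory AlgebraicGeometry Polynomial TensorProduct Limits

namespace Groth.Agent.Helper2.SchDom

universe u

/-- ring maps inducing an immersion on spectra -/
def ImmHom {A B : Type u} [CommRing A] [CommRing B] (φ : A →+* B) : Prop :=
  IsImmersion (Spec.map (CommRingCat.ofHom φ))

theorem ImmHom.comp {A B C : Type u} [CommRing A] [CommRing B] [CommRing C] (φ : A →+* B)
    (ψ : B →+* C) (hφ : ImmHom φ) (hψ : ImmHom ψ) : ImmHom (ψ.comp φ) := by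
  unfold ImmHom at *
  rw [CommRingCat.ofHom_comp, Spec.map_comp]
  infer_instance

theorem ImmHom.of_bijective {A B : Type u} [CommRing A] [CommRing B] (φ : A →+* B)
    (h : Function.Bijective φ) : ImmHom φ := by
  unfold ImmHom
  haveI : IsIso (CommRingCat.ofHom φ) := (ConcreteCategory.isIso_iff_bijective _).mpr h
  infer_instance

theorem ImmHom.of_surjective {A B : Type u} [CommRing A] [CommRing B] (φ : A →+* B)
    (h : Function.Surjective φ) : ImmHom φ := by
  unfold ImmHom
  haveI : IsClosedImmersion (Spec.map (CommRingCat.ofHom φ)) :=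
    IsClosedImmersion.spec_of_surjective _ h
  infer_instance

theorem ImmHom.away {A : Type u} [CommRing A] (g : A) :
    ImmHom (algebraMap A (Localization.Away g)) := by
  unfold ImmHom
  infer_instance

theorem ImmHom.includeRight {P D B : Type u} [CommRing P] [CommRing D] [CommRing B] [Algebra P D]
    [Algebra P B] (h : ImmHom (algebraMap P D)) :
    ImmHom (Algebra.TensorProduct.includeRight : B →ₐ[P] D ⊗[P] B).toRingHom := by
  unfold ImmHom at *
  have h1 : IsImmersion ((pullbackSpecIso P D B).inv ≫ pullback.snd
      (Spec.map (CommRingCat.ofHom (algebraMap P D)))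
      (Spec.map (CommRingCat.ofHom (algebraMap P B)))) := inferInstance
  rw [pullbackSpecIso_inv_snd] at h1
  exact h1

theorem ImmHom.polynomial {P D : Type u} [CommRing P] [CommRing D] (φ : P →+* D)
    (h : ImmHom φ) : ImmHom (Polynomial.mapRingHom φ) := by
  letI : Algebra P D := φ.toAlgebra
  have h1 : ImmHom (Algebra.TensorProduct.includeRight : P[X] →ₐ[P] D ⊗[P] P[X]).toRingHom :=
    ImmHom.includeRight (P := P) (D := D) (B := P[X]) h
  have h2 : ImmHom ((polyEquivTensor' P D).symm : D ⊗[P] P[X] ≃ₐ[D] D[X]).toRingEquiv.toRingHom :=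
    ImmHom.of_bijective _ (polyEquivTensor' P D).symm.bijective
  have h3 := ImmHom.comp _ _ h1 h2
  have e : ((polyEquivTensor' P D).symm : D ⊗[P] P[X] ≃ₐ[D] D[X]).toRingEquiv.toRingHom.comp
      (Algebra.TensorProduct.includeRight : P[X] →ₐ[P] D ⊗[P] P[X]).toRingHom
      = Polynomial.mapRingHom φ := by
    apply Polynomial.ringHom_ext
    · intro a
      show (polyEquivTensor' P D).symm ((1 : D) ⊗ₜ[P] (C a : P[X])) = Polynomial.map φ (C a)
      rw [coe_polyEquivTensor'_symm, polyEquivTensor_symm_apply_tmul_eq_smul, one_smul]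
      rfl
    · show (polyEquivTensor' P D).symm ((1 : D) ⊗ₜ[P] (X : P[X])) = Polynomial.map φ X
      rw [coe_polyEquivTensor'_symm, polyEquivTensor_symm_apply_tmul_eq_smul, one_smul]
      rfl
  rw [e] at h3
  exact h3

theorem ImmHom.stdEtale {D : Type u} [CommRing D] (Q : StandardEtalePair D) :
    ImmHom (aeval Q.X : D[X] →ₐ[D] Q.Ring).toRingHom := by
  have h1 := ImmHom.away (A := D[X]) Q.g
  have h2 := ImmHom.of_surjective
    (Ideal.Quotient.mk (Ideal.span {algebraMap D[X] (Localization.Away Q.g) Q.f}))
    Ideal.Quotient.mk_surjective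
  have h3 := ImmHom.of_bijective Q.equivAwayQuotient.symm.toRingEquiv.toRingHom
    Q.equivAwayQuotient.symm.bijective
  have h4 := ImmHom.comp _ _ (ImmHom.comp _ _ h1 h2) h3
  have e : (aeval Q.X : D[X] →ₐ[D] Q.Ring)
      = Q.equivAwayQuotient.symm.toAlgHom.comp (IsScalarTower.toAlgHom D D[X]
          (Localization.Away Q.g ⧸ Ideal.span {algebraMap D[X] (Localization.Away Q.g) Q.f})) := by
    apply Polynomial.algHom_ext
    rw [aeval_X]
    show Q.X = Q.equivAwayQuotient.symm (algebraMap D[X] _ X)
    rw [AlgEquiv.eq_symm_apply]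
    simp [StandardEtalePair.equivAwayQuotient]
  have e2 : (aeval Q.X : D[X] →ₐ[D] Q.Ring).toRingHom
      = Q.equivAwayQuotient.symm.toRingEquiv.toRingHom.comp
          ((Ideal.Quotient.mk (Ideal.span {algebraMap D[X] (Localization.Away Q.g) Q.f})).comp
            (algebraMap D[X] (Localization.Away Q.g))) := by
    rw [e]
    rfl
  rw [e2]
  exact h4

/-- étale `R`-algebras immersed in `Spec P` -/
structure EtImm (R P : Type u) [CommRing R] [CommRing P] [Algebra R P] : Type (u + 1) where
  /-- the ring -/
  D : Type u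
  [cr : CommRing D]
  [algR : Algebra R D]
  [algP : Algebra P D]
  [tower : IsScalarTower R P D]
  /-- étale over `R` -/
  etale : Algebra.Etale R D
  /-- immersed in `Spec P` -/
  imm : ImmHom (algebraMap P D)

attribute [instance] EtImm.cr EtImm.algR EtImm.algP EtImm.tower

/-- the family of all `EtImm R P` is separating -/
def SDall (R P : Type u) [CommRing R] [CommRing P] [Algebra R P] : Prop :=
  SDring (fun c : EtImm R P => algebraMap P c.D)

/-- build an `EtImm` from a ring map -/
noncomputable def EtImm.ofHom {R P S : Type u} [CommRing R] [CommRing P] [Algebra R P] [CommRing S]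
    (ρ : P →+* S) (het : (ρ.comp (algebraMap R P)).Etale) (him : ImmHom ρ) : EtImm R P :=
  letI : Algebra P S := ρ.toAlgebra
  letI : Algebra R S := (ρ.comp (algebraMap R P)).toAlgebra
  { D := S
    tower := IsScalarTower.of_algebraMap_eq (fun _ => rfl)
    etale := het
    imm := him }

theorem EtImm.ofHom_algebraMap {R P S : Type u} [CommRing R] [CommRing P] [Algebra R P]
    [CommRing S] (ρ : P →+* S) (het : (ρ.comp (algebraMap R P)).Etale) (him : ImmHom ρ) :
    algebraMap P (EtImm.ofHom ρ het him).D = ρ := rfl

section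

variable {R P : Type u} [CommRing R] [CommRing P] [Algebra R P]

theorem SDall_of_SDring {ι : Type*} {S : ι → Type u} [∀ i, CommRing (S i)] (ρ : ∀ i, P →+* S i)
    (h : SDring ρ)
    (hc : ∀ i, ∃ (c : EtImm R P) (f : c.D →+* S i), f.comp (algebraMap P c.D) = ρ i) :
    SDall R P := by
  intro g s hs
  refine h g s (fun i => ?_)
  obtain ⟨c, f, hf⟩ := hc i
  obtain ⟨m, hm⟩ := hs c
  refine ⟨m, ?_⟩
  rw [← hf, RingHom.comp_apply, hm, map_zero]

theorem SDall_self : SDall R R := by
  refine SDall_of_SDring (ι := Unit) (S := fun _ => R) (fun _ => RingHom.id R) ?_ ?_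
  · intro g s hs
    obtain ⟨m, hm⟩ := hs ()
    exact ⟨m, hm⟩
  · intro _
    refine ⟨EtImm.ofHom (RingHom.id R) ?_ ?_, RingHom.id _, rfl⟩
    · exact RingHom.Etale.of_bijective Function.bijective_id
    · exact ImmHom.of_bijective _ Function.bijective_id

theorem SDall.of_algEquiv {P' : Type u} [CommRing P'] [Algebra R P'] (e : P ≃ₐ[R] P')
    (h : SDall R P) : SDall R P' := by
  refine SDall_of_SDring (ι := EtImm R P) (S := fun c => c.D)
    (fun c => (algebraMap P c.D).comp e.symm.toRingEquiv.toRingHom) ?_ ?_
  · exact SDring.of_ringEquiv _ (fun c : EtImm R P => algebraMap P c.D) e.symm.toRingEquiv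
      (fun c => RingHom.id _) (fun c x => rfl) h
  · intro c
    refine ⟨EtImm.ofHom ((algebraMap P c.D).comp e.symm.toRingEquiv.toRingHom) ?_ ?_,
      RingHom.id _, RingHom.id_comp _⟩
    · have : ((algebraMap P c.D).comp e.symm.toRingEquiv.toRingHom).comp (algebraMap R P')
          = algebraMap R c.D := by
        ext r
        show algebraMap P c.D (e.symm (algebraMap R P' r)) = _
        rw [AlgEquiv.commutes, ← IsScalarTower.algebraMap_apply]
      rw [this, RingHom.etale_algebraMap]
      exact c.etale
    · exact ImmHom.comp _ _ (ImmHom.of_bijective _ e.symm.bijective) c.imm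

theorem SDall.polynomial (h : SDall R P) : SDall R P[X] := by
  refine SDall_of_SDring (ι := EtImm R P × StandardEtalePair ℤ)
    (S := fun j => (Qd j.1.D j.2).Ring)
    (fun j => ((ev j.1.D j.2).toRingHom).comp (Polynomial.mapRingHom (algebraMap P j.1.D))) ?_ ?_
  · intro g s hs
    refine SDring.polynomial (fun c : EtImm R P => algebraMap P c.D) h g s (fun c => ?_)
    obtain ⟨m, hm⟩ := SDring_stdEtale c.D (Polynomial.mapRingHom (algebraMap P c.D) g)
      (Polynomial.mapRingHom (algebraMap P c.D) s) (fun Q => by
        obtain ⟨m, hm⟩ := hs (c, Q)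
        exact ⟨m, by rw [← map_pow, ← map_mul]; exact hm⟩)
    exact ⟨m, by rw [map_mul, map_pow]; exact hm⟩
  · rintro ⟨c, Q⟩
    refine ⟨EtImm.ofHom (((ev c.D Q).toRingHom).comp (Polynomial.mapRingHom (algebraMap P c.D)))
      ?_ ?_, RingHom.id _, RingHom.id_comp _⟩
    · have : (((ev c.D Q).toRingHom).comp (Polynomial.mapRingHom (algebraMap P c.D))).comp
          (algebraMap R P[X]) = (algebraMap c.D (Qd c.D Q).Ring).comp (algebraMap R c.D) := by
        ext r
        show aeval (Qd c.D Q).X (Polynomial.map (algebraMap P c.D) (algebraMap R P[X] r)) = _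
        rw [Polynomial.algebraMap_apply, Polynomial.map_C, aeval_C,
          ← IsScalarTower.algebraMap_apply R P c.D]
        rfl
      rw [this]
      refine RingHom.Etale.stableUnderComposition _ _ ?_ ?_
      · exact RingHom.etale_algebraMap.mpr c.etale
      · exact RingHom.etale_algebraMap.mpr inferInstance
    · exact ImmHom.comp _ _ (ImmHom.polynomial _ c.imm) (ImmHom.stdEtale (Qd c.D Q))

theorem SDall_mvPolynomial (R : Type u) [CommRing R] (n : ℕ) :
    SDall R (MvPolynomial (Fin n) R) := by
  induction n with
  | zero => exact SDall.of_algEquiv (MvPolynomial.isEmptyAlgEquiv R (Fin 0)).symm SDall_self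
  | succ n ih => exact SDall.of_algEquiv (MvPolynomial.finSuccEquiv R n).symm ih.polynomial

theorem SDall.of_etale {B : Type u} [CommRing B] [Algebra P B] [Algebra R B] [IsScalarTower R P B]
    [Algebra.Etale P B] (h : SDall R P) : SDall R B := by
  haveI : Algebra.FinitePresentation P B := inferInstance
  haveI : Module.Flat P B := inferInstance
  have H := SDring_includeRight_of_flat_fp (A := P) (A' := B) (fun c : EtImm R P => c.D) h
  refine SDall_of_SDring _ H (fun c => ⟨EtImm.ofHom
    (Algebra.TensorProduct.includeRight : B →ₐ[P] c.D ⊗[P] B).toRingHom ?_ ?_,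
    RingHom.id _, RingHom.id_comp _⟩)
  · have : ((Algebra.TensorProduct.includeRight : B →ₐ[P] c.D ⊗[P] B).toRingHom).comp
        (algebraMap R B) = (algebraMap c.D (c.D ⊗[P] B)).comp (algebraMap R c.D) := by
      ext r
      show (1 : c.D) ⊗ₜ[P] (algebraMap R B r) = (algebraMap R c.D r) ⊗ₜ[P] (1 : B)
      rw [IsScalarTower.algebraMap_apply R P B, IsScalarTower.algebraMap_apply R P c.D,
        Algebra.algebraMap_eq_smul_one (algebraMap R P r),
        Algebra.algebraMap_eq_smul_one (A := c.D) (algebraMap R P r), TensorProduct.smul_tmul]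
    rw [this]
    refine RingHom.Etale.stableUnderComposition _ _ ?_ ?_
    · exact RingHom.etale_algebraMap.mpr c.etale
    · exact RingHom.etale_algebraMap.mpr inferInstance
  · exact ImmHom.includeRight c.imm

end

/-- **standard smooth algebras** -/
theorem SDall_of_isStandardSmooth {R B : Type u} [CommRing R] [CommRing B] [Algebra R B]
    (h : (algebraMap R B).IsStandardSmooth) : SDall R B := by
  obtain ⟨n, g, hgC, hg⟩ := RingHom.IsStandardSmooth.exists_etale_mvPolynomial h
  letI : Algebra (MvPolynomial (Fin n) R) B := g.toAlgebra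
  haveI : IsScalarTower R (MvPolynomial (Fin n) R) B :=
    IsScalarTower.of_algebraMap_eq (fun r => by
      rw [← hgC]
      rfl)
  haveI : Algebra.Etale (MvPolynomial (Fin n) R) B := hg
  exact (SDall_mvPolynomial R n).of_etale

end Groth.Agent.Helper2.SchDom
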