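import Mathlib
import Groth.Agent.Lib.Helper2.EtFam.Ind
import Groth.Agent.Lib.Helper2.SchDom.Glue

set_option autoImplicit false
set_option backward.isDefEq.respectTransparency.types false
set_option synthInstance.maxHeartbeats 400000
set_option maxHeartbeats 4000000
set_option linter.style.haveILetI false
set_option linter.unusedSectionVars false
set_option linter.unusedVariables false

/-!
# The subschemes of a smooth scheme which are étale over the base are schematically dominant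
-/

open CategoryTheory AlgebraicGeometry Polynomial TensorProduct Limits TopologicalSpace

namespace Groth.Agent.Helper2.SchDom

universe u

/-- the members of `EtImm` give immersions into `X` which are étale over `S` -/
theorem etImm_geom {X S : Scheme.{u}} (p : X ⟶ S) {US : S.Opens} (hUS : IsAffineOpen US)
    {UX : X.Opens} (hUX : IsAffineOpen UX) (hle : UX ≤ p ⁻¹ᵁ US) :
    letI : Algebra Γ(S, US) Γ(X, UX) := (p.appLE US UX hle).hom.toAlgebra
    ∀ c : EtImm Γ(S, US) Γ(X, UX),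
      IsImmersion (Spec.map (CommRingCat.ofHom (algebraMap Γ(X, UX) c.D)) ≫ hUX.fromSpec) ∧
      Etale ((Spec.map (CommRingCat.ofHom (algebraMap Γ(X, UX) c.D)) ≫ hUX.fromSpec) ≫ p) := by
  letI : Algebra Γ(S, US) Γ(X, UX) := (p.appLE US UX hle).hom.toAlgebra
  intro c
  constructor
  · haveI : IsImmersion (Spec.map (CommRingCat.ofHom (algebraMap Γ(X, UX) c.D))) := c.imm
    infer_instance
  · have e : (Spec.map (CommRingCat.ofHom (algebraMap Γ(X, UX) c.D)) ≫ hUX.fromSpec) ≫ p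
        = Spec.map (CommRingCat.ofHom (algebraMap Γ(S, US) c.D)) ≫ hUS.fromSpec := by
      rw [Category.assoc, ← IsAffineOpen.SpecMap_appLE_fromSpec p hUS hUX hle, ← Category.assoc,
        ← Spec.map_comp]
      congr 2
      ext r
      exact (IsScalarTower.algebraMap_apply Γ(S, US) Γ(X, UX) c.D r).symm
    rw [e]
    haveI : Etale (Spec.map (CommRingCat.ofHom (algebraMap Γ(S, US) c.D))) := by
      rw [HasRingHomProperty.Spec_iff (P := @Etale)]
      exact RingHom.etale_algebraMap.mpr c.etale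
    infer_instance

theorem main14067 {X S : Scheme.{u}} (p : X ⟶ S) [Smooth p] (V : X.Opens) (t : Γ(X, V))
    (h : ∀ (Z : Scheme.{u}) (j : Z ⟶ X), IsImmersion j → Etale (j ≫ p) → j.app V t = 0) :
    t = 0 := by
  refine eq_zero_of_locally V t (fun x hxV => ?_)
  obtain ⟨US, hUS, UX, hUX, hxUX, hle, hsm⟩ := Smooth.exists_isStandardSmooth p x
  letI : Algebra Γ(S, US) Γ(X, UX) := (p.appLE US UX hle).hom.toAlgebra
  have hsd : SDall Γ(S, US) Γ(X, UX) := SDall_of_isStandardSmooth hsm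
  have hx : x ∈ Set.range hUX.fromSpec := by
    rw [hUX.range_fromSpec]
    exact hxUX
  obtain ⟨y, rfl⟩ := hx
  refine ⟨_, hUX.fromSpec, inferInstance, hUX.fromSpec ⁻¹ᵁ V, le_rfl, ⟨y, hxV, rfl⟩, ?_⟩
  rw [Scheme.Hom.appLE_eq_app]
  refine affine_crit (R := Γ(X, UX))
    (Rj := fun c : EtImm Γ(S, US) Γ(X, UX) => CommRingCat.of c.D)
    (fun c => CommRingCat.ofHom (algebraMap Γ(X, UX) c.D)) hsd _ _ ?_
  intro c
  obtain ⟨him, het⟩ := etImm_geom p hUS hUX hle c
  have h0 := h _ _ him het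
  rw [Scheme.Hom.comp_app] at h0
  exact h0

theorem main14068 {S S' B' : Scheme.{u}} (g : S' ⟶ S) [Smooth g]
    (q : B' ⟶ S') [Flat q] [LocallyOfFinitePresentation q] (V : B'.Opens) (t : Γ(B', V))
    (h : ∀ (Z : Scheme.{u}) (j : Z ⟶ S'), IsImmersion j → Etale (j ≫ g) →
      (Limits.pullback.snd j q).app V t = 0) : t = 0 := by
  refine eq_zero_of_locally V t (fun x hxV => ?_)
  obtain ⟨US, hUS, UA, hUA, hxUA, hle, hsm⟩ := Smooth.exists_isStandardSmooth g (q x)
  obtain ⟨UB, hUB0, hxUB, hleB⟩ := Opens.isBasis_iff_nbhd.mp B'.isBasis_affineOpens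
    (show x ∈ q ⁻¹ᵁ UA from hxUA)
  have hUB : IsAffineOpen UB := hUB0
  letI : Algebra Γ(S, US) Γ(S', UA) := (g.appLE US UA hle).hom.toAlgebra
  letI : Algebra Γ(S', UA) Γ(B', UB) := (q.appLE UA UB hleB).hom.toAlgebra
  haveI : Module.Flat Γ(S', UA) Γ(B', UB) := Flat.flat_appLE q hUA hUB hleB
  haveI : Algebra.FinitePresentation Γ(S', UA) Γ(B', UB) :=
    LocallyOfFinitePresentation.finitePresentation_appLE q hUA hUB hleB
  have hsd : SDall Γ(S, US) Γ(S', UA) := SDall_of_isStandardSmooth hsm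
  have H := SDring_includeRight_of_flat_fp (A := Γ(S', UA)) (A' := Γ(B', UB))
    (fun c : EtImm Γ(S, US) Γ(S', UA) => c.D) hsd
  have hx : x ∈ Set.range hUB.fromSpec := by
    rw [hUB.range_fromSpec]
    exact hxUB
  obtain ⟨y, rfl⟩ := hx
  refine ⟨_, hUB.fromSpec, inferInstance, hUB.fromSpec ⁻¹ᵁ V, le_rfl, ⟨y, hxV, rfl⟩, ?_⟩
  rw [Scheme.Hom.appLE_eq_app]
  refine affine_crit (R := Γ(B', UB))
    (Rj := fun c : EtImm Γ(S, US) Γ(S', UA) => CommRingCat.of (c.D ⊗[Γ(S', UA)] Γ(B', UB)))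
    (fun c => CommRingCat.ofHom
      (Algebra.TensorProduct.includeRight : Γ(B', UB) →ₐ[Γ(S', UA)] c.D ⊗[Γ(S', UA)] Γ(B', UB)).toRingHom)
    H _ _ ?_
  intro c
  obtain ⟨him, het⟩ := etImm_geom g hUS hUA hle c
  have h0 := h _ _ him het
  set θc : Γ(B', UB) ⟶ CommRingCat.of (c.D ⊗[Γ(S', UA)] Γ(B', UB)) := CommRingCat.ofHom
    (Algebra.TensorProduct.includeRight :
      Γ(B', UB) →ₐ[Γ(S', UA)] c.D ⊗[Γ(S', UA)] Γ(B', UB)).toRingHom with hθc
  have hcond : Spec.map (CommRingCat.ofHom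
        (Algebra.TensorProduct.includeLeftRingHom : c.D →+* c.D ⊗[Γ(S', UA)] Γ(B', UB)))
        ≫ (Spec.map (CommRingCat.ofHom (algebraMap Γ(S', UA) c.D)) ≫ hUA.fromSpec)
      = (Spec.map θc ≫ hUB.fromSpec) ≫ q := by
    rw [Category.assoc, ← IsAffineOpen.SpecMap_appLE_fromSpec q hUA hUB hleB, ← Category.assoc,
      ← Category.assoc, ← Spec.map_comp, ← Spec.map_comp]
    congr 2
    ext a
    show (Algebra.TensorProduct.includeLeft :
        c.D →ₐ[Γ(S', UA)] c.D ⊗[Γ(S', UA)] Γ(B', UB)) (algebraMap Γ(S', UA) c.D a)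
      = (Algebra.TensorProduct.includeRight :
        Γ(B', UB) →ₐ[Γ(S', UA)] c.D ⊗[Γ(S', UA)] Γ(B', UB)) (algebraMap Γ(S', UA) Γ(B', UB) a)
    rw [AlgHom.commutes, AlgHom.commutes]
  let δ : Spec (CommRingCat.of (c.D ⊗[Γ(S', UA)] Γ(B', UB))) ⟶
      Limits.pullback (Spec.map (CommRingCat.ofHom (algebraMap Γ(S', UA) c.D)) ≫ hUA.fromSpec) q :=
    Limits.pullback.lift _ _ hcond
  have key : δ ≫ Limits.pullback.snd _ q = Spec.map θc ≫ hUB.fromSpec :=
    Limits.pullback.lift_snd _ _ _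
  have e1 : (δ ≫ Limits.pullback.snd
      (Spec.map (CommRingCat.ofHom (algebraMap Γ(S', UA) c.D)) ≫ hUA.fromSpec) q).app V t = 0 := by
    rw [Scheme.Hom.comp_app]
    show (δ.app _).hom ((Limits.pullback.snd _ q).app V t) = 0
    rw [h0, map_zero]
  have e2 : (Spec.map θc ≫ hUB.fromSpec).app V t = 0 := by
    have : ∀ (m m' : Spec (CommRingCat.of (c.D ⊗[Γ(S', UA)] Γ(B', UB))) ⟶ B') (e : m = m'),
        m.app V t = 0 → m'.app V t = 0 := by
      rintro m _ rfl hm; exact hm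
    exact this _ _ key e1
  rw [Scheme.Hom.comp_app] at e2
  exact e2

end Groth.Agent.Helper2.SchDom
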